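import Mathlib

/-!
# A group of order `2 p ^ 3` with trivial centraliser in large projective special linear groups

`(F^3) ⋊ ±1` acts on `F^m ⊕ F^(m+1)` through a Kronecker module whose endomorphisms are scalars.
-/

set_option autoImplicit false

namespace CfsgLib.BrickEmbed

open Matrix

variable {K : Type*} [Field K] (m : ℕ)

/-- The Kronecker pencil with one extra matrix. -/
def pencil : (Fin 3 → K) →ₗ[K] Matrix (Fin (m + 1)) (Fin m) K where
  toFun v := Matrix.of fun i j =>
    (if i.val = j.val then v 0 else 0) + (if i.val = j.val + 1 then v 1 else 0) +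
      (if i.val = 0 ∧ j.val + 1 = m then v 2 else 0)
  map_add' v w := by
    ext i j
    simp only [of_apply, Pi.add_apply, Matrix.add_apply]
    split_ifs <;> ring
  map_smul' c v := by
    ext i j
    simp only [of_apply, Pi.smul_apply, Matrix.smul_apply, smul_eq_mul, RingHom.id_apply]
    split_ifs <;> ring

theorem pencil_injective (hm : 3 ≤ m) : Function.Injective (pencil (K := K) m) := by
  rw [← LinearMap.ker_eq_bot, Submodule.eq_bot_iff]
  intro v hv
  have h : ∀ i j, pencil m v i j = 0 := fun i j => by rw [LinearMap.mem_ker.1 hv]; rfl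
  have h0 := h ⟨1, by omega⟩ ⟨1, by omega⟩
  have h1 := h ⟨2, by omega⟩ ⟨1, by omega⟩
  have h2 := h ⟨0, by omega⟩ ⟨m - 1, by omega⟩
  simp [pencil] at h0 h1
  simp [pencil, show ¬ 0 = m - 1 by omega, show m - 1 + 1 = m by omega, show ¬ 0 = m by omega] at h2
  funext i
  fin_cases i
  · exact h0
  · exact h1
  · exact h2

/-- A pair commuting with the pencil is a pair of scalars. -/
theorem brick (hm : 1 ≤ m) (P : Matrix (Fin m) (Fin m) K) (R : Matrix (Fin (m + 1)) (Fin (m + 1)) K)
    (h : ∀ v, R * pencil (K := K) m v = pencil (K := K) m v * P) : ∃ c : K, P = c • 1 ∧ R = c • 1 := by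
  have e1 : ∀ i j, R i (Fin.castSucc j) = if hi : i.val < m then P ⟨i, hi⟩ j else 0 := fun i j => by
    have := Matrix.ext_iff.mpr (h (Pi.single 0 1)) i j
    change ∑ k, R i k * pencil m (Pi.single 0 1) k j = ∑ k, pencil m (Pi.single 0 1) i k * P k j at this
    rw [Finset.sum_eq_single (Fin.castSucc j)] at this
    · simp [pencil] at this
      rw [this]
      split_ifs with hi
      · rw [Finset.sum_eq_single ⟨i, hi⟩]
        · simp
        · intro k _ hk
          simp [Fin.val_ne_iff.2 (Ne.symm hk : (⟨i, hi⟩ : Fin m) ≠ k)]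
        · simp
      · exact Finset.sum_eq_zero fun k _ => by
          have : i.val ≠ k.val := by have := k.2; omega
          simp [this]
    · intro k _ hk
      have : k.val ≠ j.val := fun e => hk (Fin.ext e)
      simp [pencil, this]
    · simp
  have e2 : ∀ i j, R i (Fin.succ j) = if hi : 1 ≤ i.val then P ⟨i - 1, by omega⟩ j else 0 := fun i j => by
    have := Matrix.ext_iff.mpr (h (Pi.single 1 1)) i j
    change ∑ k, R i k * pencil m (Pi.single 1 1) k j = ∑ k, pencil m (Pi.single 1 1) i k * P k j at this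
    rw [Finset.sum_eq_single (Fin.succ j)] at this
    · simp [pencil] at this
      rw [this]
      split_ifs with hi
      · rw [Finset.sum_eq_single ⟨i - 1, by omega⟩]
        · rw [if_pos (by simp only; omega)]
        · intro k _ hk
          have : i.val ≠ k.val + 1 := fun e => hk (Fin.ext (by simp only; omega))
          simp [this]
        · simp
      · exact Finset.sum_eq_zero fun k _ => by
          have : i.val ≠ k.val + 1 := by omega
          simp [this]
    · intro k _ hk
      have : k.val ≠ j.val + 1 := fun e => hk (Fin.ext e)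
      simp [pencil, this]
    · simp
  -- `R` is Toeplitz
  have step : ∀ i j : Fin m, R i.succ j.succ = R i.castSucc j.castSucc := fun i j => by
    rw [e1, e2, dif_pos (by simp), dif_pos (by simp)]
    rfl
  have hR : ∀ (d : ℕ) (a b a' b' : Fin (m + 1)), a.val + d = a'.val → b.val + d = b'.val →
      R a' b' = R a b := by
    intro d
    induction d with
    | zero =>
      intro a b a' b' ha hb
      rw [show a' = a from Fin.ext (by omega), show b' = b from Fin.ext (by omega)]
    | succ d ih =>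
      intro a b a' b' ha hb
      obtain ⟨i, rfl⟩ : ∃ i : Fin m, a' = i.succ := ⟨⟨a'.val - 1, by omega⟩, Fin.ext (by simp; omega)⟩
      obtain ⟨j, rfl⟩ : ∃ j : Fin m, b' = j.succ := ⟨⟨b'.val - 1, by omega⟩, Fin.ext (by simp; omega)⟩
      rw [step]
      simp only [Fin.val_succ] at ha hb
      exact ih a b _ _ (by simp; omega) (by simp; omega)
  have hRc : R = R 0 0 • 1 := by
    ext a b
    rcases lt_trichotomy a.val b.val with hab | hab | hab
    · rw [hR a.val 0 ⟨b.val - a.val, by omega⟩ a b (by simp) (by simp; omega),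
        show (⟨b.val - a.val, by omega⟩ : Fin (m + 1)) = Fin.succ ⟨b.val - a.val - 1, by omega⟩ from
          Fin.ext (by simp; omega), e2, dif_neg (by simp)]
      simp [Fin.ne_of_val_ne hab.ne]
    · rw [Fin.ext hab, hR b.val 0 0 b b (by simp) (by simp)]
      simp
    · rw [← hR (m - a.val) a b ⟨m, by omega⟩ ⟨b.val + (m - a.val), by omega⟩ (by simp; omega) (by simp),
        show (⟨b.val + (m - a.val), by omega⟩ : Fin (m + 1)) =
          Fin.castSucc ⟨b.val + (m - a.val), by omega⟩ from Fin.ext (by simp), e1, dif_neg (by simp)]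
      simp [Fin.ne_of_val_ne hab.ne']
  refine ⟨R 0 0, ?_, hRc⟩
  ext i j
  have h1 := e1 i.castSucc j
  rw [dif_pos (by simp)] at h1
  have h2 : R i.castSucc j.castSucc = (R 0 0 • (1 : Matrix (Fin (m + 1)) (Fin (m + 1)) K)) i.castSucc j.castSucc := by
    rw [← hRc]
  rw [show P i j = R i.castSucc j.castSucc from h1.symm, h2]
  simp [Matrix.one_apply]

variable (K)

/-- Index equivalence. -/
def idx : Fin m ⊕ Fin (m + 1) ≃ Fin (2 * m + 1) := finSumFinEquiv.trans (finCongr (by omega))

/-- The block algebra as square matrices. -/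
def toSquare : Matrix (Fin m ⊕ Fin (m + 1)) (Fin m ⊕ Fin (m + 1)) K ≃ₐ[K]
    Matrix (Fin (2 * m + 1)) (Fin (2 * m + 1)) K :=
  Matrix.reindexAlgEquiv K K (idx m)

/-- The unipotent part. -/
def unip : Multiplicative (Fin 3 → K) →* Matrix.SpecialLinearGroup (Fin (2 * m + 1)) K where
  toFun v := ⟨toSquare K m (fromBlocks 1 0 (pencil m v.toAdd) 1), by
    rw [toSquare, Matrix.reindexAlgEquiv_apply, det_reindex_self, det_fromBlocks_zero₁₂, det_one,
      det_one, mul_one]⟩
  map_one' := by
    apply Subtype.ext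
    show toSquare K m (fromBlocks 1 0 (pencil m 0) 1) = 1
    rw [map_zero, fromBlocks_one, map_one]
  map_mul' v w := by
    apply Subtype.ext
    show toSquare K m _ = toSquare K m _ * toSquare K m _
    rw [← map_mul, fromBlocks_multiply]
    simp [toAdd_mul, map_add, add_comm]

/-- The involution. -/
def inv2 : Matrix.SpecialLinearGroup (Fin (2 * m + 1)) K :=
  ⟨toSquare K m (((-1 : K) ^ (m + 1)) • fromBlocks 1 0 0 (-1)), by
    rw [toSquare, Matrix.reindexAlgEquiv_apply, det_reindex_self, det_smul, det_fromBlocks_zero₁₂,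
      det_one, one_mul, det_neg, det_one, mul_one, Fintype.card_sum, Fintype.card_fin,
      Fintype.card_fin, ← pow_mul, ← pow_add]
    exact Even.neg_one_pow ⟨(m + 1) * (m + 1), by ring⟩⟩

theorem inv2_sq : inv2 K m * inv2 K m = 1 := by
  apply Subtype.ext
  show toSquare K m _ * toSquare K m _ = 1
  rw [← map_mul, smul_mul_smul_comm, fromBlocks_multiply, ← mul_pow, neg_one_mul, neg_neg, one_pow]
  simp

theorem inv2_conj (v : Multiplicative (Fin 3 → K)) :
    inv2 K m * unip K m v * inv2 K m = unip K m v⁻¹ := by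
  apply Subtype.ext
  show toSquare K m _ * toSquare K m _ * toSquare K m _ = toSquare K m _
  rw [← map_mul, ← map_mul, smul_mul_assoc, smul_mul_smul_comm, fromBlocks_multiply, fromBlocks_multiply,
    ← mul_pow, neg_one_mul, neg_neg, one_pow, one_smul]
  simp [toAdd_inv]

/-- Inversion as an action of the group of order two. -/
def invAct {N : Type*} [CommGroup N] : Multiplicative (ZMod 2) →* MulAut N :=
  MonoidHom.mk' (fun x => if x = 1 then 1 else MulEquiv.inv N) (fun x y => by
    rcases (by decide : ∀ x : Multiplicative (ZMod 2), x = 1 ∨ x = Multiplicative.ofAdd 1) x with rfl | rfl <;>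
      rcases (by decide : ∀ x : Multiplicative (ZMod 2), x = 1 ∨ x = Multiplicative.ofAdd 1) y with rfl | rfl <;>
      ext z <;> simp [← ofAdd_add, show (1 : ZMod 2) + 1 = 0 by decide])

/-- The group `K^3 ⋊ ±1`. -/
abbrev Grp (K : Type*) [Field K] : Type _ :=
  Multiplicative (Fin 3 → K) ⋊[invAct] Multiplicative (ZMod 2)

/-- The representation. -/
def rep : Grp K →* Matrix.SpecialLinearGroup (Fin (2 * m + 1)) K :=
  SemidirectProduct.lift (unip K m)
    (MonoidHom.mk' (fun x => if x = 1 then 1 else inv2 K m) (fun x y => by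
      rcases (by decide : ∀ x : Multiplicative (ZMod 2), x = 1 ∨ x = Multiplicative.ofAdd 1) x with rfl | rfl <;>
        rcases (by decide : ∀ x : Multiplicative (ZMod 2), x = 1 ∨ x = Multiplicative.ofAdd 1) y with rfl | rfl <;>
        simp [← ofAdd_add, show (1 : ZMod 2) + 1 = 0 by decide, inv2_sq K m]))
    (fun x => by
      refine MonoidHom.ext fun v => ?_
      rcases (by decide : ∀ x : Multiplicative (ZMod 2), x = 1 ∨ x = Multiplicative.ofAdd 1) x with rfl | rfl
      · simp
      · have h1 : (inv2 K m)⁻¹ = inv2 K m := inv_eq_of_mul_eq_one_right (inv2_sq K m)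
        simp [invAct, MulAut.conj_apply, h1, inv2_conj K m])

end CfsgLib.BrickEmbed

namespace CfsgLib.BrickEmbed

open Matrix

variable (p : ℕ) [Fact p.Prime] (m : ℕ)

theorem coe_unip (K : Type*) [Field K] (v : Multiplicative (Fin 3 → K)) :
    (unip K m v : Matrix (Fin (2 * m + 1)) (Fin (2 * m + 1)) K) =
      toSquare K m (fromBlocks 1 0 (pencil m v.toAdd) 1) := rfl

theorem coe_inv2 (K : Type*) [Field K] :
    (inv2 K m : Matrix (Fin (2 * m + 1)) (Fin (2 * m + 1)) K) =
      toSquare K m (((-1 : K) ^ (m + 1)) • fromBlocks 1 0 0 (-1)) := rfl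

/-- The representation in the projective group. -/
noncomputable def projRep :
    Grp (ZMod p) →* Matrix.ProjectiveSpecialLinearGroup (Fin (2 * m + 1)) (ZMod p) :=
  (QuotientGroup.mk' _).comp (rep (ZMod p) m)

theorem exists_scalar_of_mem_center {n : ℕ} {K : Type*} [Field K] {g : Matrix.SpecialLinearGroup (Fin n) K}
    (h : g ∈ Subgroup.center (Matrix.SpecialLinearGroup (Fin n) K)) :
    ∃ c : K, (g : Matrix (Fin n) (Fin n) K) = c • 1 := by
  obtain ⟨c, -, hc⟩ := Matrix.SpecialLinearGroup.mem_center_iff.1 h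
  exact ⟨c, by rw [← hc, smul_one_eq_diagonal]; rfl⟩

theorem projRep_injective (hp : p ≠ 2) (hm : 3 ≤ m) : Function.Injective (projRep p m) := by
  have h2 : (2 : ZMod p) ≠ 0 := fun h => hp ((Nat.prime_dvd_prime_iff_eq Fact.out Nat.prime_two).1
    ((ZMod.natCast_eq_zero_iff 2 p).1 (by exact_mod_cast h)))
  rw [injective_iff_map_eq_one]
  intro x hx
  obtain ⟨c, hc⟩ := exists_scalar_of_mem_center ((QuotientGroup.eq_one_iff _).1 hx)
  obtain ⟨v, s⟩ := x
  change ((unip (ZMod p) m v * if s = 1 then 1 else inv2 (ZMod p) m :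
    Matrix.SpecialLinearGroup (Fin (2 * m + 1)) (ZMod p)) :
    Matrix (Fin (2 * m + 1)) (Fin (2 * m + 1)) (ZMod p)) = c • 1 at hc
  split_ifs at hc with hs
  · subst hs
    rw [mul_one, coe_unip, ← map_one (toSquare (ZMod p) m), ← map_smul] at hc
    have h := (toSquare (ZMod p) m).injective hc
    rw [← fromBlocks_one, fromBlocks_smul, fromBlocks_inj] at h
    obtain ⟨-, -, h, -⟩ := h
    rw [smul_zero] at h
    have hv : v = 1 := Multiplicative.toAdd.injective (pencil_injective m hm (by rw [h]; simp))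
    subst hv
    rfl
  · exfalso
    rw [Matrix.SpecialLinearGroup.coe_mul, coe_unip, coe_inv2, ← map_mul,
      ← map_one (toSquare (ZMod p) m), ← map_smul] at hc
    have h := (toSquare (ZMod p) m).injective hc
    rw [mul_smul_comm, fromBlocks_multiply, ← fromBlocks_one, fromBlocks_smul, fromBlocks_smul,
      fromBlocks_inj] at h
    obtain ⟨h1, -, -, h4⟩ := h
    simp only [Matrix.one_mul, Matrix.mul_zero, Matrix.zero_mul, add_zero, zero_add] at h1 h4
    have e1 := congrFun (congrFun h1 ⟨0, by omega⟩) ⟨0, by omega⟩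
    have e4 := congrFun (congrFun h4 0) 0
    simp at e1 e4
    rw [← e1] at e4
    have : (2 : ZMod p) * (-1) ^ (m + 1) = 0 := by linear_combination -e4
    exact h2 ((mul_eq_zero.1 this).resolve_right (pow_ne_zero _ (by norm_num)))

theorem centralizer_projRep (hp : p ≠ 2) (hm : 1 ≤ m) :
    Subgroup.centralizer ((projRep p m).range : Set (Matrix.ProjectiveSpecialLinearGroup (Fin (2 * m + 1)) (ZMod p))) = ⊥ := by
  have h2 : (2 : ZMod p) ≠ 0 := fun h => hp ((Nat.prime_dvd_prime_iff_eq Fact.out Nat.prime_two).1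
    ((ZMod.natCast_eq_zero_iff 2 p).1 (by exact_mod_cast h)))
  rw [eq_bot_iff]
  intro x hx
  obtain ⟨g, rfl⟩ := QuotientGroup.mk'_surjective _ x
  rw [Subgroup.mem_bot]
  refine (QuotientGroup.eq_one_iff g).2 ?_
  set G := (toSquare (ZMod p) m).symm (g : Matrix (Fin (2 * m + 1)) (Fin (2 * m + 1)) (ZMod p)) with hG
  have hcomm : ∀ (h : Grp (ZMod p)) (M : Matrix (Fin m ⊕ Fin (m + 1)) (Fin m ⊕ Fin (m + 1)) (ZMod p)),
      (rep (ZMod p) m h : Matrix (Fin (2 * m + 1)) (Fin (2 * m + 1)) (ZMod p)) = toSquare (ZMod p) m M →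
      ∃ c : ZMod p, G * M = c • (M * G) := by
    intro h M hM
    have h1 := Subgroup.mem_centralizer_iff.1 hx _ ⟨h, rfl⟩
    change QuotientGroup.mk' _ (rep (ZMod p) m h) * QuotientGroup.mk' _ g =
      QuotientGroup.mk' _ g * QuotientGroup.mk' _ (rep (ZMod p) m h) at h1
    rw [← map_mul, ← map_mul] at h1
    obtain ⟨z, hz, hzz⟩ := (QuotientGroup.mk'_eq_mk' _).1 h1
    obtain ⟨c, hc⟩ := exists_scalar_of_mem_center hz
    refine ⟨c, (toSquare (ZMod p) m).injective ?_⟩
    rw [map_smul, map_mul, map_mul, ← hM, hG, AlgEquiv.apply_symm_apply]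
    have h3 := congrArg (fun k : Matrix.SpecialLinearGroup (Fin (2 * m + 1)) (ZMod p) =>
      (k : Matrix (Fin (2 * m + 1)) (Fin (2 * m + 1)) (ZMod p))) hzz
    simp only [Matrix.SpecialLinearGroup.coe_mul, hc, mul_smul_comm, mul_one] at h3
    exact h3.symm
  have hGdet : G ≠ 0 := fun h0 => by
    have hg : (g : Matrix (Fin (2 * m + 1)) (Fin (2 * m + 1)) (ZMod p)) = 0 := by
      rw [← AlgEquiv.apply_symm_apply (toSquare (ZMod p) m) (g : Matrix _ _ _), ← hG, h0, map_zero]
    have hd := g.det_coe
    haveI : Nonempty (Fin (2 * m + 1)) := ⟨⟨0, by omega⟩⟩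
    rw [hg, det_zero] at hd
    exact zero_ne_one hd
  -- the involution commutes with `g`
  set ε : ZMod p := (-1) ^ (m + 1)
  have hε : ε ≠ 0 := pow_ne_zero _ (by norm_num)
  obtain ⟨c, hc⟩ := hcomm (SemidirectProduct.inr (Multiplicative.ofAdd 1)) (ε • fromBlocks 1 0 0 (-1)) (by
    rw [rep, SemidirectProduct.lift_inr]; rfl)
  have hGblk : G = fromBlocks G.toBlocks₁₁ G.toBlocks₁₂ G.toBlocks₂₁ G.toBlocks₂₂ := (fromBlocks_toBlocks G).symm
  obtain ⟨u, hu⟩ : IsUnit G := by
    rw [hG]
    refine IsUnit.map (toSquare (ZMod p) m).symm ?_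
    exact ⟨Matrix.SpecialLinearGroup.toGL g, rfl⟩
  have hc1 : c = 1 := by
    set D : Matrix (Fin m ⊕ Fin (m + 1)) (Fin m ⊕ Fin (m + 1)) (ZMod p) := ε • fromBlocks 1 0 0 (-1) with hD
    have hDD : D * D = 1 := by
      rw [hD, smul_mul_smul_comm, fromBlocks_multiply, ← mul_pow, neg_one_mul, neg_neg, one_pow]
      simp
    have hc2 : c * c = 1 := by
      have h1 : G * (D * D) = (c * c) • (D * D * G) := by
        rw [← mul_assoc, hc, smul_mul_assoc, mul_assoc, hc, mul_smul_comm, smul_smul, mul_assoc]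
      rw [hDD, mul_one, one_mul] at h1
      have h3 : (c * c - 1) • G = 0 := by rw [sub_smul, one_smul, ← h1, sub_self]
      exact sub_eq_zero.1 ((smul_eq_zero.1 h3).resolve_right hGdet)
    rcases mul_self_eq_one_iff.1 hc2 with h | h
    · exact h
    · exfalso
      have h1 : D = c • ((↑u⁻¹ : Matrix _ _ (ZMod p)) * (D * G)) := by
        rw [← mul_smul_comm, ← hc, ← hu, Units.inv_mul_cancel_left]
      have h3 := congrArg Matrix.trace h1
      rw [Matrix.trace_smul c, Matrix.trace_mul_comm, mul_assoc, ← hu, Units.mul_inv, mul_one, h] at h3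
      have h4 : Matrix.trace D = ε * ((m : ZMod p) - (m + 1)) := by
        rw [hD, Matrix.trace_smul, smul_eq_mul]
        congr 1
        simp [Matrix.trace, Fintype.sum_sum_type, sub_eq_add_neg]
      have h5 : (2 : ZMod p) * Matrix.trace D = 0 := by
        simp only [smul_eq_mul] at h3
        linear_combination h3
      rw [h4] at h5
      rcases mul_eq_zero.1 h5 with h6 | h6
      · exact h2 h6
      · exact hε (by linear_combination -h6)
  subst hc1
  rw [one_smul, mul_smul_comm, smul_mul_assoc] at hc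
  have hc' := smul_right_injective _ hε hc
  rw [hGblk, fromBlocks_multiply, fromBlocks_multiply, fromBlocks_inj] at hc'
  obtain ⟨-, hQ, hS, -⟩ := hc'
  simp only [Matrix.mul_zero, Matrix.zero_mul, Matrix.one_mul, Matrix.mul_one, Matrix.mul_neg,
    Matrix.neg_mul, add_zero, zero_add] at hQ hS
  have hneg : ∀ {a b : Type} (X : Matrix a b (ZMod p)), -X = X → X = 0 := fun X h => by
    have h0 : (2 : ZMod p) • X = 0 := by
      rw [show (2 : ZMod p) = 1 + 1 by norm_num, add_smul, one_smul]
      nth_rewrite 1 [← h]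
      exact neg_add_cancel X
    exact (smul_eq_zero.1 h0).resolve_left h2
  have hQ0 : G.toBlocks₁₂ = 0 := hneg _ hQ
  have hS0 : G.toBlocks₂₁ = 0 := hneg _ hS.symm
  -- the unipotent part
  have hpen : ∀ v, G.toBlocks₂₂ * pencil (K := ZMod p) m v = pencil (K := ZMod p) m v * G.toBlocks₁₁ := by
    intro v
    obtain ⟨c, hc⟩ := hcomm (SemidirectProduct.inl (Multiplicative.ofAdd v))
      (fromBlocks 1 0 (pencil m v) 1) (by rw [rep, SemidirectProduct.lift_inl]; rfl)
    rw [hGblk, hQ0, hS0, fromBlocks_multiply, fromBlocks_multiply, fromBlocks_smul, fromBlocks_inj] at hc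
    obtain ⟨e1, -, e3, e4⟩ := hc
    simp only [Matrix.mul_zero, Matrix.zero_mul, Matrix.one_mul, Matrix.mul_one, add_zero, zero_add,
      smul_zero] at e1 e3 e4
    by_cases hc1 : c = 1
    · subst hc1; simpa using e3
    · exfalso
      have hP : G.toBlocks₁₁ = 0 := by
        have : (1 - c) • G.toBlocks₁₁ = 0 := by rw [sub_smul, one_smul, ← e1, sub_self]
        exact (smul_eq_zero.1 this).resolve_left (sub_ne_zero.2 (Ne.symm hc1))
      have hR : G.toBlocks₂₂ = 0 := by
        have : (1 - c) • G.toBlocks₂₂ = 0 := by rw [sub_smul, one_smul, ← e4, sub_self]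
        exact (smul_eq_zero.1 this).resolve_left (sub_ne_zero.2 (Ne.symm hc1))
      exact hGdet (by rw [hGblk, hQ0, hS0, hP, hR, fromBlocks_zero])
  obtain ⟨d, hP, hR⟩ := brick m hm _ _ hpen
  have hgd : (g : Matrix (Fin (2 * m + 1)) (Fin (2 * m + 1)) (ZMod p)) = d • 1 := by
    rw [← AlgEquiv.apply_symm_apply (toSquare (ZMod p) m) (g : Matrix _ _ _), ← hG, hGblk, hQ0, hS0, hP, hR,
      show fromBlocks (d • (1 : Matrix (Fin m) (Fin m) (ZMod p))) 0 0
          (d • (1 : Matrix (Fin (m + 1)) (Fin (m + 1)) (ZMod p))) = d • 1 by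
        rw [← fromBlocks_one, fromBlocks_smul, smul_zero, smul_zero],
      map_smul, map_one]
  rw [Subgroup.mem_center_iff]
  intro y
  apply Subtype.ext
  simp [hgd]

theorem card_grp : Nat.card (Grp (ZMod p)) = 2 * p ^ 3 := by
  rw [Nat.card_congr SemidirectProduct.equivProd, Nat.card_prod,
    Nat.card_congr Multiplicative.toAdd, Nat.card_congr Multiplicative.toAdd, Nat.card_fun,
    Nat.card_zmod, Nat.card_zmod, Nat.card_fin, mul_comm]

end CfsgLib.BrickEmbed
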